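import Cfsg.Agent.LyRec.Triangle.Select

/-! Generated: the data pinning the two triangle relations of one automorphism. -/

set_option autoImplicit false
set_option maxRecDepth 100000
set_option linter.all false

namespace Cfsg.Agent.LyRec.Triangle.Data1

open Cfsg.Agent.LyLocal

/-- The auxiliary relation. -/
def zRel : Rel where
  g := cW
  h := inW cW
  Lw := [0, 2, 0, 2, 0, 2, 0, 2]
  prs := [([0, 2, 1, 1], [1, 2, 2], [1, 2, 1, 0]),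
      ([1, 2, 2], [0, 2, 1, 1], [1, 2, 0, 2, 1]),
      ([1, 0, 2, 1], [2, 2, 1], [0, 1, 2, 1, 2])]

/-- The data of relation 0. -/
def pin0 : Pin where
  rel :=
    { g := relG 1 0
      h := relH 1 0
      Lw := [1, 0, 2, 0, 2, 2]
      prs := [([1, 1, 1, 1], [1, 0, 2, 0, 2, 2], [1, 1, 1, 1]),
      ([0], [0, 1, 1, 0, 2, 1, 2, 2], [1, 1, 2, 1, 2, 2]),
      ([2, 0, 2, 0, 2, 0, 2], [1, 1, 1, 1], [0, 1, 2, 1, 0, 2, 2])] }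
  selfs := [⟨true, [2, 0, 2, 2, 0, 2, 0], [2, 1, 1, 2, 2]⟩]
  fates := [.keep,
    .odd [(2, 4), (3, 6), (4, 8), (5, 10), (6, 7), (7, 10), (8, 10)],
    .odd [(2, 4), (3, 6), (4, 10), (5, 8), (6, 7), (7, 8), (8, 10)],
    .self 0 [0, 1, 0, 1, 2, 0, 2, 1],
    .self 0 [0, 2, 2, 1, 2, 2, 1],
    .odd [(2, 5), (3, 7), (4, 8), (5, 10), (7, 8)],
    .odd [(2, 5), (3, 7), (4, 10), (5, 8), (7, 10)],
    .self 0 [2, 2, 0, 2, 0, 2, 2],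
    .self 0 [2, 0, 2, 2, 0, 2, 0],
    .odd [(2, 6), (3, 4), (4, 8), (5, 10), (6, 10)],
    .odd [(2, 6), (3, 4), (4, 10), (5, 8), (6, 8)],
    .self 0 [2, 2, 1, 2, 2, 1],
    .self 0 [1, 0, 1, 2, 0, 2, 1],
    .odd [(2, 7), (3, 5), (4, 8), (5, 10), (6, 8), (7, 8), (8, 10)],
    .odd [(2, 7), (3, 5), (4, 10), (5, 8), (6, 10), (7, 10), (8, 10)],
    .keep,
    .odd [(0, 1), (2, 4), (3, 6), (4, 8), (5, 10), (6, 7), (7, 10)],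
    .self 0 [0, 1, 0, 1, 0, 2, 1, 2],
    .self 0 [0, 2, 0, 2, 2, 0, 2],
    .odd [(0, 1), (2, 4), (3, 6), (4, 10), (5, 8), (6, 7), (7, 8)],
    .odd [(0, 1), (2, 5), (3, 7), (4, 8), (5, 10), (7, 8), (8, 10)],
    .self 0 [1, 1],
    .self 0 [0, 1, 2, 2, 1, 2, 2],
    .odd [(0, 1), (2, 5), (3, 7), (4, 10), (5, 8), (7, 10), (8, 10)],
    .odd [(0, 1), (2, 6), (3, 4), (4, 8), (5, 10), (6, 10), (8, 10)],
    .self 0 [1, 2, 2, 1, 2, 2],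
    .self 0 [0, 1, 1],
    .odd [(0, 1), (2, 6), (3, 4), (4, 10), (5, 8), (6, 8), (8, 10)],
    .odd [(0, 1), (2, 7), (3, 5), (4, 8), (5, 10), (6, 8), (7, 8)],
    .self 0 [2, 0, 2, 2, 0, 2],
    .self 0 [1, 0, 1, 0, 2, 1, 2],
    .odd [(0, 1), (2, 7), (3, 5), (4, 10), (5, 8), (6, 10), (7, 10)]]
  Y := relY 1 0
  other := [0, 1, 4, 6, 8, 10, 7, 5, 2, 9, 3]
  sgn := ⟨true, [2, 0, 2, 2, 0, 2, 0], [2, 1, 1, 2, 2]⟩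
  sgnL := [2, 1, 1, 2, 1, 1, 2]
  crit := ⟨[2, 1, 2, 2, 1, 2], [2, 2, 0, 2, 2, 1, 2], [2, 1, 1, 2, 2], true, [1, 0, 1, 0, 2, 1, 2], [], [0, 1, 2, 1, 0, 2, 2], [[2, 0, 2, 0, 2, 2, 1], [0, 2, 2, 0, 2, 1]]⟩

/-- The data of relation 1. -/
def pin1 : Pin where
  rel :=
    { g := relG 1 1
      h := relH 1 1
      Lw := [1, 1, 2, 1, 2, 1]
      prs := [([1, 0, 2, 0, 2, 1], [0, 2, 1, 1, 0, 2], [1, 2, 1, 1, 1, 2]),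
      ([1, 2, 1, 1, 1, 2], [0, 2, 0, 1, 1, 2], [0, 2, 0, 1, 1, 2]),
      ([2, 1, 1, 1, 2, 0], [1, 1, 0, 2, 1, 2], [2, 0, 2, 2, 1, 2])] }
  selfs := [⟨false, [2, 2, 0, 1], [2, 1, 1, 2]⟩, ⟨true, [0, 1], [0, 1, 0, 1]⟩]
  fates := [.self 0 [1, 1, 0, 2, 2, 0],
    .self 0 [2, 1, 2, 0, 2, 1, 1],
    .self 0 [0, 2, 2, 1],
    .self 0 [0, 2, 0, 1, 1, 2, 2],
    .self 0 [0, 2, 1, 2, 2, 0, 1],
    .self 0 [0, 1, 0, 2, 0, 2, 2],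
    .self 0 [0, 1, 1, 2, 2, 0],
    .self 0 [0, 2, 0, 1, 2, 0],
    .self 0 [1, 2, 2, 0, 1, 0],
    .self 0 [0, 2, 1, 1, 0, 2, 2],
    .self 0 [0, 2, 0, 2, 2, 1, 0],
    .self 0 [1, 1, 0, 2, 1, 2, 2],
    .keep,
    .self 0 [1, 0, 2, 1, 1],
    .self 0 [0, 1, 1, 0, 2, 0, 1],
    .self 1 [1, 2, 0, 2, 2, 1, 2, 0],
    .self 0 [2, 2, 1, 1, 1, 2, 0],
    .self 0 [2, 2, 0, 1, 0, 2, 0],
    .self 1 [0, 1],
    .self 0 [0, 1, 0, 1, 2],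
    .self 0 [1, 0, 1, 0, 2],
    .keep,
    .self 0 [0, 1, 2, 2, 0, 2, 1],
    .self 0 [2, 0, 2, 2, 1, 2, 2]]
  Y := relY 1 1
  other := [4, 6, 0, 2, 1, 3, 5, 7, 8, 9, 10]
  sgn := ⟨false, [2, 2, 0, 1], [2, 1, 1, 2]⟩
  sgnL := [2, 0, 1, 1, 0, 2, 0, 2, 0]
  crit := ⟨[1, 1, 2], [2, 1, 0, 1, 1], [2, 2], false, [2, 0, 1, 1, 0], [], [0, 1, 2, 1, 0, 2, 2], [[0, 1, 0, 2, 0], [0, 2, 2, 1, 2]]⟩

theorem zRel_ok [IsSimpleGroup P] : zRel.eqOK 1 = true := by decide +kernel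

theorem pin0_ok [IsSimpleGroup P] :
    pin0.eqOK 1 = true ∧ pin0.candOK 1 = true ∧ pin0.signOK 1 = true ∧
      pin0.critOK 1 (zRel.cands 1) = true := by
  refine ⟨?_, ?_, ?_, ?_⟩ <;> decide +kernel

theorem pin1_ok [IsSimpleGroup P] :
    pin1.eqOK 1 = true ∧ pin1.candOK 1 = true ∧ pin1.signOK 1 = true ∧
      pin1.critOK 1 (zRel.cands 1) = true := by
  refine ⟨?_, ?_, ?_, ?_⟩ <;> decide +kernel

end Cfsg.Agent.LyRec.Triangle.Data1
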