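import Cfsg.Agent.LyLocal.SylowAlt

/-!
Tables of permutations of eleven points: products, inverses, parity, and the search for all
permutations with prescribed conjugation behaviour.
-/

set_option autoImplicit false

namespace Cfsg.Agent.LyRec.Triangle

open Equiv Cfsg.Agent.LyLocal Cfsg.Agent.AltMult Cfsg.Agent.ShortPres

/-- The images of the eleven points. -/
abbrev Tbl : Type := List (Fin 11)

/-- The table of a permutation. -/
def tb (σ : Perm (Fin 11)) : Tbl := (List.finRange 11).map σ

/-- The table of a product. -/
def tm (p q : Tbl) : Tbl := q.map fun i => p.getD i.val 0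

/-- The table of an inverse. -/
def ti (p : Tbl) : Tbl := (List.finRange 11).map fun i => Fin.ofNat 11 (p.idxOf i)

theorem tb_getD (σ : Perm (Fin 11)) (i : Fin 11) : (tb σ).getD i.val 0 = σ i := by
  simp [tb, List.getD_eq_getElem?_getD]

theorem tb_inj : Function.Injective tb := fun σ τ h =>
  Equiv.ext fun i => List.map_inj_left.1 h i (List.mem_finRange i)

theorem tb_mul (σ τ : Perm (Fin 11)) : tb (σ * τ) = tm (tb σ) (tb τ) := by
  show _ = (tb τ).map fun i => (tb σ).getD i.val 0
  simp only [tb_getD]
  rw [tb, tb, List.map_map]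
  rfl

theorem tb_inv (σ : Perm (Fin 11)) : tb σ⁻¹ = ti (tb σ) := by
  refine List.map_congr_left fun i _ => ?_
  have h : (tb σ).idxOf i = (σ⁻¹ i).val := by
    have hnd : (tb σ).Nodup := (List.nodup_finRange 11).map σ.injective
    have hlt : (σ⁻¹ i).val < (tb σ).length := by simp [tb]
    have hget : (tb σ)[(σ⁻¹ i).val] = i := by simp [tb]
    conv_lhs => rw [← hget]
    exact hnd.idxOf_getElem _ hlt
  rw [h]
  exact Fin.ext (Nat.mod_eq_of_lt (σ⁻¹ i).isLt).symm

/-- The table of a transposition. -/
def swT (a b : Fin 11) : Tbl :=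
  (List.finRange 11).map fun i => if i = a then b else if i = b then a else i

theorem tb_swap (a b : Fin 11) : tb (Equiv.swap a b) = swT a b :=
  List.map_congr_left fun i _ => Equiv.swap_apply_def a b i

/-- The table of a product of transpositions. -/
def swsT : List (Fin 11 × Fin 11) → Tbl
  | [] => List.finRange 11
  | ab :: T => tm (swT ab.1 ab.2) (swsT T)

/-- A table of an odd permutation. -/
def oddT (T : List (Fin 11 × Fin 11)) (p : Tbl) : Bool :=
  T.length % 2 == 1 && T.all (fun ab => ab.1 != ab.2) && swsT T == p

theorem odd_false {T : List (Fin 11 × Fin 11)} {σ : A11} (h : oddT T (tb σ.1) = true) : False := by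
  simp only [oddT, Bool.and_eq_true, beq_iff_eq, List.all_eq_true, bne_iff_ne] at h
  obtain ⟨⟨hl, hne⟩, he⟩ := h
  have key : ∀ T : List (Fin 11 × Fin 11),
      tb (T.map fun ab => Equiv.swap ab.1 ab.2).prod = swsT T := by
    intro T
    induction T with
    | nil => simp [tb, swsT]
    | cons ab T ih => rw [List.map_cons, List.prod_cons, tb_mul, tb_swap, ih, swsT]
  have hs : σ.1 = (T.map fun ab => Equiv.swap ab.1 ab.2).prod := tb_inj (by rw [key, he])
  have h1 : Perm.sign σ.1 = 1 := Perm.mem_alternatingGroup.1 σ.2
  rw [hs, Perm.sign_prod_list_swap (fun g hg => by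
    obtain ⟨ab, hab, rfl⟩ := List.mem_map.1 hg
    exact ⟨_, _, hne ab hab, rfl⟩)] at h1
  rw [List.length_map] at h1
  rcases Nat.even_or_odd T.length with ⟨k, hk⟩ | ho
  · omega
  · rw [Odd.neg_one_pow ho] at h1
    exact absurd h1 (by decide)

/-- The table of a generating three-cycle. -/
def gT (i : Fin 9) : Tbl :=
  let a : Fin 11 := ⟨i.val + 2, Nat.add_lt_add_right i.isLt 2⟩
  (List.finRange 11).map fun p => if p = 0 then 1 else if p = 1 then a else if p = a then 0 else p

/-- The table of a word in the three-cycles. -/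
def lt (w : List (Fin 9)) : Tbl := w.foldr (fun i t => tm (gT i) t) (List.finRange 11)

theorem gT_eq : ∀ i : Fin 9, gT i = tb (genA i).1 := by decide +kernel

theorem lt_eq : ∀ w : List (Fin 9), lt w = tb (altW w).1
  | [] => (List.map_id _).symm
  | i :: w => by
    rw [altW, List.map_cons, List.prod_cons, Subgroup.coe_mul, tb_mul, ← gT_eq]
    exact congrArg (tm (gT i)) (lt_eq w)

/-- The pairs are compatible with a table as far as it goes. -/
def okP (prs : List (Tbl × Tbl)) (q : Tbl) : Bool :=
  prs.all fun ab => (List.range q.length).all fun i =>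
    !Nat.blt (ab.2.getD i 0).val q.length ||
      ab.1.getD (q.getD (ab.2.getD i 0).val 0).val 0 == q.getD i 0

/-- One more point. -/
def stepP (prs : List (Tbl × Tbl)) (S : List Tbl) : List Tbl :=
  S.flatMap fun p =>
    ((List.finRange 11).filter fun v => !p.contains v && okP prs (p ++ [v])).map fun v => p ++ [v]

/-- All tables of length `n` compatible with the pairs. -/
def solsN (prs : List (Tbl × Tbl)) : Nat → List Tbl
  | 0 => [[]]
  | n + 1 => stepP prs (solsN prs n)

theorem mem_solsN {prs : List (Tbl × Tbl)} {σ : Perm (Fin 11)}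
    (h : ∀ ab ∈ prs, tm (tm ab.1 (tb σ)) ab.2 = tb σ) :
    ∀ n, n ≤ 11 → (tb σ).take n ∈ solsN prs n
  | 0, _ => by simp [solsN]
  | n + 1, hn => by
    have ih := mem_solsN h n (by omega)
    have htk : (tb σ).take (n + 1) = (tb σ).take n ++ [σ ⟨n, hn⟩] := by
      rw [List.take_add_one, List.getElem?_eq_getElem (by simp [tb]; omega)]
      simp [tb]
    rw [solsN, stepP, List.mem_flatMap]
    refine ⟨_, ih, List.mem_map.2 ⟨σ ⟨n, hn⟩, List.mem_filter.2 ⟨List.mem_finRange _, ?_⟩, htk.symm⟩⟩
    rw [← htk, Bool.and_eq_true]
    have hg : ∀ i, i < n + 1 → ((tb σ).take (n + 1)).getD i 0 = (tb σ).getD i 0 := fun i hi => by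
      simp [List.getD_eq_getElem?_getD, List.getElem?_take_of_lt hi]
    constructor
    · rw [Bool.not_eq_true', ← Bool.not_eq_true, List.contains_iff_mem]
      intro hm
      obtain ⟨k, hk, e⟩ := List.mem_iff_getElem.1 hm
      have hk' : k < n := by simpa [tb] using lt_of_lt_of_le hk (le_of_eq rfl) |>.trans_le (by simp)
      rw [List.getElem_take] at e
      simp only [tb, List.getElem_map, List.getElem_finRange] at e
      have := congrArg Fin.val (σ.injective e)
      simp at this
      omega
    · rw [okP, List.all_eq_true]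
      intro ab hab
      rw [List.all_eq_true]
      intro i hi
      have hlen : ((tb σ).take (n + 1)).length = n + 1 := by simp [tb]; omega
      rw [hlen, List.mem_range] at hi
      rw [hlen, Bool.or_eq_true, Bool.not_eq_true', ← Bool.not_eq_true, Nat.blt_eq]
      by_cases hb : (ab.2.getD i 0).val < n + 1
      · right
        rw [hg _ hb, hg i hi, beq_iff_eq]
        conv_rhs => rw [← h ab hab]
        have hl2 : i < ab.2.length := by
          have := congrArg List.length (h ab hab)
          simp only [tm, tb, List.length_map, List.length_finRange] at this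
          omega
        simp [tm, List.getD_eq_getElem?_getD, List.getElem?_map, List.getElem?_eq_getElem hl2, tb]
      · exact Or.inl hb

/-- All permutations compatible with the pairs are found. -/
theorem mem_sols {prs : List (Tbl × Tbl)} {σ : Perm (Fin 11)}
    (h : ∀ ab ∈ prs, tm (tm ab.1 (tb σ)) ab.2 = tb σ) : tb σ ∈ solsN prs 11 := by
  have := mem_solsN h 11 le_rfl
  rwa [List.take_of_length_le (by simp [tb])] at this

end Cfsg.Agent.LyRec.Triangle
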