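import Cfsg.Agent.LyRec.Conf
import Cfsg.Agent.LyRec.Model
import Cfsg.Agent.LyRec.Triangle.Table

/-!
An involution exchanging the two marked involutions satisfies triangle relations `x g x h x = y`:
the value lies in the cover, stabiliser identities leave finitely many permutations for it, and
derived identities `x a x = b` exclude all but one.
-/

set_option autoImplicit false
set_option linter.unusedSectionVars false
set_option maxRecDepth 100000

namespace Cfsg.Agent.LyRec.Triangle

open Cfsg Cfsg.Agent.LyLocal Cfsg.Agent.DCoset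

variable [IsSimpleGroup P]

/-- The element of the double cover of a word. -/
def dW (w : List (Fin 9)) : DD := ⟨liftW w, (liftW_spec w).1⟩

theorem dW_append (w v : List (Fin 9)) : dW (w ++ v) = dW w * dW v :=
  Subtype.ext (by simp [dW, liftW])

theorem dW_nil : dW [] = 1 := rfl

/-- The table of the image of an element. -/
noncomputable def pt (d : DD) : Tbl := tb (proj d).1

theorem pt_mul (a b : DD) : pt (a * b) = tm (pt a) (pt b) := by
  rw [pt, map_mul, Subgroup.coe_mul, tb_mul]; rfl

theorem pt_inv (a : DD) : pt a⁻¹ = ti (pt a) := by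
  rw [pt, map_inv, Subgroup.coe_inv, tb_inv]; rfl

theorem pt_dW (w : List (Fin 9)) : pt (dW w) = lt w := by
  rw [lt_eq, pt, dW, (liftW_spec w).2]

theorem proj_eq_of_pt {a b : DD} (h : pt a = pt b) : proj a = proj b := Subtype.ext (tb_inj h)

/-- The word of an inverse. -/
def inW (w : List (Fin 9)) : List (Fin 9) := w.reverse.flatMap fun i => [i, i]

theorem dW_inW : ∀ w : List (Fin 9), dW (inW w) = (dW w)⁻¹
  | [] => by simp [inW, dW_nil]
  | i :: w => by
    have hi : dW [i, i] = (dW [i])⁻¹ := by
      refine eq_inv_of_mul_eq_one_left ?_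
      rw [← dW_append]
      exact Subtype.ext (by simpa [dW, liftW, pow_succ, mul_assoc] using xx_cube i.val i.isLt)
    rw [show inW (i :: w) = inW w ++ [i, i] by simp [inW], dW_append, dW_inW w, hi, ← mul_inv_rev,
      ← dW_append]
    rfl

/-- The image tuple of a word. -/
noncomputable def tupW (w : List (Fin 9)) : Nat :=
  w.foldl (fun v i => mapTup (Model.tab.act i.val) Model.tab.k v) Model.tab.base

/-- Two words have the same value. -/
noncomputable def eqw (w v : List (Fin 9)) : Bool := Nat.beq (tupW w) (tupW v)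

theorem tupW_eq (w : List (Fin 9)) : tupW w = Model.qm.tup (dW w) := by
  induction w using List.reverseRecOn with
  | nil => rw [dW_nil, Model.qm.one]; rfl
  | append_singleton w i ih =>
    have hq : dW [i] = Model.qm.q i.val := by
      rw [Model.qm_q, Model.qL, dif_pos i.isLt]
      exact Subtype.ext (by simp [dW, liftW, Model.lift])
    rw [dW_append, hq, Model.qm.step _ _ (show i.val < 18 by omega), ← ih, Model.qm_tab]
    simp [tupW, List.foldl_append]

theorem eq_of_eqw {w v : List (Fin 9)} (h : eqw w v = true) : dW w = dW v :=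
  Model.qm.inj (by rw [← tupW_eq, ← tupW_eq]; exact Nat.eq_of_beq_eq_true h)

/-- The word of the central involution. -/
def ttW : List (Fin 9) := [0, 1, 0, 1]

theorem dW_ttW : dW ttW = ⟨tt, tt_mem⟩ := by
  have h := xx_sq 0 1 (by norm_num) (by norm_num) (by norm_num)
  rw [pow_two] at h
  refine Subtype.ext ?_
  show liftW ttW = tt
  rw [← h]
  simp [liftW, ttW, mul_assoc]

theorem ttW_central (a : DD) : a * dW ttW = dW ttW * a := by
  rw [dW_ttW]; exact Subtype.ext (tt_central a.2)

theorem eq_or_tt {a b : DD} (h : pt a = pt b) : a = b ∨ a = b * dW ttW := by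
  rcases eq_or_of_proj (proj_eq_of_pt h) with e | e
  · exact Or.inl (Subtype.ext e)
  · exact Or.inr (Subtype.ext (by rw [dW_ttW]; exact e))

theorem ne_mul_tt (a : DD) : a ≠ a * dW ttW := by
  intro h
  rw [dW_ttW, left_eq_mul] at h
  exact tt_ne (congrArg Subtype.val h)

/-- A word in the marked generators. -/
def gw (L : List (Fin 3)) : List (Fin 9) := L.flatMap Alpha.gen

/-- Its image. -/
def iw (j : Fin 3) (L : List (Fin 3)) : List (Fin 9) := L.flatMap (Alpha.img j)

theorem gw_append (L M : List (Fin 3)) : gw (L ++ M) = gw L ++ gw M := List.flatMap_append ..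

theorem iw_append (j : Fin 3) (L M : List (Fin 3)) : iw j (L ++ M) = iw j L ++ iw j M :=
  List.flatMap_append ..

variable {G : Type*} [Group G]

/-- An involution exchanging the two marked involutions and acting as the automorphism `j`. -/
structure Frame (S : Setting G) (j : Fin 3) (x : G) : Prop where
  sq : x * x = 1
  swap : x * S.t * x = S.word Alpha.uD
  conj : ∀ k : Fin 3, x * S.word (Alpha.gen k) * x = S.word (Alpha.img j k)

theorem word_eq (S : Setting G) (w : List (Fin 9)) : S.word w = S.f (dW w) := fP_eq S _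

theorem t_eq (S : Setting G) : S.f (dW ttW) = S.t := by rw [dW_ttW]; exact S.map_t

variable {S : Setting G} {j : Fin 3} {x : G}

namespace Frame

variable (hF : Frame S j x)
include hF

theorem x_inv : x⁻¹ = x := inv_eq_of_mul_eq_one_right hF.sq

theorem cancel (a : G) : x * (x * a) = a := by rw [← mul_assoc, hF.sq, one_mul]

theorem conj_mul (a b : G) : x * (a * b) * x = x * a * x * (x * b * x) := by
  simp only [mul_assoc, hF.cancel]

theorem flip {a b : G} (h : x * a * x = b) : x * b * x = a := by
  rw [← h]; simp only [mul_assoc, hF.cancel, hF.sq, mul_one]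

theorem alpha (L : List (Fin 3)) : x * S.f (dW (gw L)) * x = S.f (dW (iw j L)) := by
  induction L with
  | nil => simp [gw, iw, dW_nil, hF.sq]
  | cons k L ih =>
    rw [gw, iw, List.flatMap_cons, List.flatMap_cons, dW_append, dW_append, map_mul, map_mul,
      hF.conj_mul, ← word_eq, hF.conj, word_eq]
    exact congrArg _ ih

theorem gw_x (L : List (Fin 3)) : S.f (dW (gw L)) * x = x * S.f (dW (iw j L)) := by
  rw [← hF.alpha L]; simp only [mul_assoc, hF.cancel]

theorem comm_u {a : G} {b : DD} (h : x * a * x = S.f b) :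
    a * S.f (dW Alpha.uD) = S.f (dW Alpha.uD) * a := by
  have hb : S.f b * S.t = S.t * S.f b := by
    have hm : S.f b ∈ S.f.range := ⟨b, rfl⟩
    rw [S.range] at hm
    exact Subgroup.mem_centralizer_singleton_iff.1 hm
  rw [← word_eq, ← hF.swap, ← hF.flip h]
  calc x * S.f b * x * (x * S.t * x) = x * (S.f b * S.t) * x := by
        simp only [mul_assoc, hF.cancel]
    _ = x * (S.t * S.f b) * x := by rw [hb]
    _ = _ := by simp only [mul_assoc, hF.cancel]

end Frame

/-- An excluded value of an identity: outside the image, or not commuting with the second involution. -/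
def kill (j : Fin 3) (L : List (Fin 3)) (cW : List (Fin 9)) (A B : Tbl) : Bool :=
  A == lt (gw L ++ cW) || (A == lt (gw L) && B != lt (iw j L) && B != lt (iw j L ++ Alpha.uD))

/-- The element moving the second involution to its product with the central one. -/
def cW : List (Fin 9) := [3, 2]

theorem cW_ne : dW cW * dW Alpha.uD = dW Alpha.uD * dW cW * dW ttW := by
  rw [← dW_append, ← dW_append, ← dW_append]
  exact eq_of_eqw (by decide +kernel)

theorem Frame.kill_false (hF : Frame S j x) {a b : DD} {L : List (Fin 3)}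
    (h : x * S.f a * x = S.f b) (hk : kill j L cW (pt a) (pt b) = true) : False := by
  simp only [kill, Bool.or_eq_true, Bool.and_eq_true, beq_iff_eq, bne_iff_ne] at hk
  rcases hk with hk | ⟨⟨hA, hB⟩, hB'⟩
  · have hau : Commute a (dW Alpha.uD) := S.inj (by rw [map_mul, map_mul]; exact hF.comm_u h)
    have hgu : Commute (dW (gw L)) (dW Alpha.uD) :=
      S.inj (by rw [map_mul, map_mul]; exact hF.comm_u (hF.alpha L))
    have htu : Commute (dW ttW) (dW Alpha.uD) := (ttW_central _).symm
    have hcu : Commute (dW cW) (dW Alpha.uD) := by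
      rw [← pt_dW, dW_append] at hk
      have hc : dW cW = (dW (gw L))⁻¹ * a ∨ dW cW = (dW (gw L))⁻¹ * (a * dW ttW) := by
        rcases eq_or_tt hk with e | e
        · left; rw [e, inv_mul_cancel_left]
        · right
          rw [e, mul_assoc _ (dW ttW), ← dW_append ttW ttW]
          rw [show dW (ttW ++ ttW) = 1 from
            (eq_of_eqw (w := ttW ++ ttW) (v := []) (by decide +kernel)).trans dW_nil, mul_one,
            inv_mul_cancel_left]
      rcases hc with e | e <;> rw [e]
      · exact hgu.inv_left.mul_left hau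
      · exact hgu.inv_left.mul_left (hau.mul_left htu)
    exact ne_mul_tt _ (hcu.eq.symm.trans cW_ne)
  · rw [← pt_dW] at hA
    rcases eq_or_tt hA with e | e
    · apply hB
      rw [← pt_dW]
      refine congrArg pt (S.inj ?_)
      rw [← h, e, hF.alpha]
    · apply hB'
      rw [← pt_dW, dW_append]
      refine congrArg pt (S.inj ?_)
      rw [map_mul, ← h, e, map_mul, hF.conj_mul, hF.alpha, t_eq, hF.swap, word_eq]

/-- The data of one relation. -/
structure Rel where
  g : List (Fin 9)
  h : List (Fin 9)
  Lw : List (Fin 3)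
  prs : List (List (Fin 3) × List (Fin 3) × List (Fin 3))

/-- The defining equations of a relation. -/
noncomputable def Rel.eqOK (R : Rel) (j : Fin 3) : Bool :=
  eqw (Alpha.uD ++ R.g) (R.g ++ gw R.Lw) && eqw (R.h ++ Alpha.uD) (iw j R.Lw ++ R.h) &&
    R.prs.all fun p => eqw (gw p.1 ++ R.g ++ gw p.2.1) R.g && eqw (iw j p.2.1 ++ R.h) (R.h ++ gw p.2.2)

/-- The permutations compatible with the stabiliser. -/
def Rel.cands (R : Rel) (j : Fin 3) : List Tbl :=
  solsN (R.prs.map fun p => (lt (iw j p.1), lt (iw j p.2.2))) 11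

theorem Frame.exists_value (hF : Frame S j x) (R : Rel) (hR : R.eqOK j = true) :
    ∃ y : DD, x * S.f (dW R.g) * x * S.f (dW R.h) * x = S.f y ∧ pt y ∈ R.cands j := by
  simp only [Rel.eqOK, Bool.and_eq_true, List.all_eq_true] at hR
  obtain ⟨⟨h1, h2⟩, h3⟩ := hR
  have e1 := congrArg S.f (eq_of_eqw h1)
  have e2 := congrArg S.f (eq_of_eqw h2)
  rw [dW_append, dW_append, map_mul, map_mul] at e1 e2
  have hu : S.t * x = x * S.f (dW Alpha.uD) := by
    rw [← word_eq, ← hF.swap]; simp only [mul_assoc, hF.cancel]
  have hu' : S.f (dW Alpha.uD) * x = x * S.t := by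
    rw [← word_eq, ← hF.swap]; simp only [mul_assoc, hF.sq, mul_one]
  set g := S.f (dW R.g) with hg
  set h := S.f (dW R.h) with hh
  have hW : x * g * x * h * x ∈ S.f.range := by
    rw [S.range, Subgroup.mem_centralizer_singleton_iff]
    symm
    calc S.t * (x * g * x * h * x) = x * (S.f (dW Alpha.uD) * g) * x * h * x := by
          rw [← mul_assoc, ← mul_assoc, ← mul_assoc, ← mul_assoc, hu]; simp only [mul_assoc]
      _ = x * g * (S.f (dW (gw R.Lw)) * x) * h * x := by rw [e1]; simp only [mul_assoc]
      _ = x * g * x * (S.f (dW (iw j R.Lw)) * h) * x := by rw [hF.gw_x]; simp only [mul_assoc]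
      _ = x * g * x * h * (S.f (dW Alpha.uD) * x) := by rw [← e2]; simp only [mul_assoc]
      _ = x * g * x * h * x * S.t := by rw [hu']; simp only [mul_assoc]
  obtain ⟨y, hy⟩ := hW
  refine ⟨y, hy.symm, mem_sols fun ab hab => ?_⟩
  obtain ⟨⟨L, L', L''⟩, hp, rfl⟩ := List.mem_map.1 hab
  obtain ⟨h4, h5⟩ := h3 _ hp
  have e4 := congrArg S.f (eq_of_eqw h4)
  have e5 := congrArg S.f (eq_of_eqw h5)
  rw [dW_append, dW_append, map_mul, map_mul, ← hg] at e4
  rw [dW_append, dW_append, map_mul, map_mul, ← hh] at e5
  have key : dW (iw j L) * y * dW (iw j L'') = y := S.inj (by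
    rw [map_mul, map_mul, hy]
    conv_rhs => rw [← e4, hF.conj_mul, hF.conj_mul, hF.alpha, hF.alpha]
    simp only [mul_assoc]
    rw [← mul_assoc (S.f (dW (iw j L'))) h, e5]
    simp only [mul_assoc]
    rw [hF.gw_x])
  show tm (tm (lt (iw j L)) (pt y)) (lt (iw j L'')) = pt y
  rw [← pt_dW, ← pt_dW, ← pt_mul, ← pt_mul, key]

end Cfsg.Agent.LyRec.Triangle
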