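import Cfsg.Agent.LyRec.Triangle.Rules

/-!
Excluding all values of a triangle relation but one, from data: every permutation is odd, or is
excluded by an identity of the relation with itself, or by one critical pair; the sign is fixed by one
exact identity.
-/

set_option autoImplicit false
set_option linter.unusedSectionVars false
set_option maxRecDepth 100000

namespace Cfsg.Agent.LyRec.Triangle

open Cfsg Cfsg.Agent.LyLocal

/-- How one permutation is dealt with. -/
inductive Fate
  | keep
  | odd (T : List (Fin 11 × Fin 11))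
  | self (i : Nat) (L : List (Fin 3))

/-- An identity of a relation with itself: a decomposition of `h` or of the inverse of `g`. -/
structure Self where
  ofH : Bool
  E : List (Fin 3)
  D : List (Fin 3)

/-- A critical pair. -/
structure Crit where
  D : List (Fin 3)
  E3 : List (Fin 3)
  D3 : List (Fin 3)
  useC : Bool
  E4 : List (Fin 3)
  D4 : List (Fin 3)
  tl : List (Fin 3)
  Ls : List (List (Fin 3))

/-- The data pinning one relation. -/
structure Pin where
  rel : Rel
  selfs : List Self
  fates : List Fate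
  Y : List (Fin 9)
  other : Tbl
  sgn : Self
  sgnL : List (Fin 3)
  crit : Crit

variable (j : Fin 3) (R : Pin)

/-- The decomposition behind an identity holds. -/
noncomputable def Self.ok (s : Self) : Bool :=
  cond s.ofH (eqw R.rel.h (gw s.E ++ R.rel.g ++ gw s.D))
    (eqw (R.rel.g ++ gw s.E ++ R.rel.g ++ gw s.D) [])

/-- The middle element of an identity. -/
def Self.wordA (s : Self) (y : List (Fin 9)) : List (Fin 9) :=
  cond s.ofH (R.rel.g ++ iw j s.E ++ y) (inW y ++ inW (iw j s.D) ++ R.rel.h)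

/-- The value of an identity. -/
def Self.wordB (s : Self) (y : List (Fin 9)) : List (Fin 9) :=
  cond s.ofH (y ++ inW (iw j s.D) ++ R.rel.h) (inW R.rel.h ++ iw j s.E ++ y)

/-- The table of the middle element of an identity. -/
def Self.tabA (s : Self) (p : Tbl) : Tbl :=
  cond s.ofH (tm (lt (R.rel.g ++ iw j s.E)) p) (tm (ti p) (lt (inW (iw j s.D) ++ R.rel.h)))

/-- The table of the value of an identity. -/
def Self.tabB (s : Self) (p : Tbl) : Tbl :=
  cond s.ofH (tm p (lt (inW (iw j s.D) ++ R.rel.h))) (tm (lt (inW R.rel.h ++ iw j s.E)) p)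

/-- One permutation is dealt with. -/
def fateOK (p : Tbl) : Fate → Bool
  | .keep => p == lt R.Y || p == R.other
  | .odd T => oddT T p
  | .self i L =>
    match R.selfs[i]? with
    | some s => kill j L cW (s.tabA j R p) (s.tabB j R p)
    | none => false

/-- Every permutation is dealt with. -/
def Pin.candOK : Bool :=
  (R.rel.cands j).length == R.fates.length &&
    ((R.rel.cands j).zip R.fates).all fun pf => fateOK j R pf.1 pf.2

/-- The equations of the data. -/
noncomputable def Pin.eqOK : Bool :=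
  R.rel.eqOK j && R.selfs.all (fun s => s.ok R) && R.sgn.ok R &&
    eqw (inW R.rel.h ++ gw R.crit.D ++ R.rel.g) (gw R.crit.E3 ++ R.rel.g ++ gw R.crit.D3) &&
    eqw (gw R.crit.tl) ttW

/-- The sign is right. -/
noncomputable def Pin.signOK : Bool :=
  eqw (R.sgn.wordA j R (R.Y ++ ttW)) (gw R.sgnL) &&
    (eqw (R.sgn.wordB j R (R.Y ++ ttW) ++ ttW) (iw j R.sgnL) ||
      lt (R.sgn.wordB j R (R.Y ++ ttW)) != lt (iw j R.sgnL))

/-- The middle letter of the last rule of the critical pair. -/
def Pin.a4 : List (Fin 9) := cond R.crit.useC cW R.rel.g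

/-- The right factor of the last rule of the critical pair. -/
def Pin.q4 : List (Fin 9) := cond R.crit.useC cW (inW R.rel.h)

/-- The critical pair excludes the other permutation. -/
def Pin.critOK (zs : List Tbl) : Bool :=
  tm (lt (R.rel.g ++ iw j R.crit.D)) R.other == lt (gw R.crit.E4 ++ R.a4 ++ gw R.crit.D4) &&
    (cond R.crit.useC zs [R.other]).all fun pz =>
      [R.crit.E4, R.crit.E4 ++ R.crit.tl].all fun E4 =>
        R.crit.Ls.any fun L =>
          kill j L cW
            (tm (tm (tm (tm (ti pz) (ti (lt (iw j E4)))) R.other) (lt (iw j R.crit.E3))) R.other)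
            (lt (R.q4 ++ iw j R.crit.D4 ++ inW R.rel.h ++ inW (iw j R.crit.D3) ++ R.rel.h))

variable {j} {R}

section

variable [IsSimpleGroup P] {G : Type*} [Group G] {S : Setting G} {x : G}

theorem self_rule (hF : Frame S j x) {s : Self} (hs : s.ok R = true) {y : DD}
    (hy : x * S.f (dW R.rel.g) * x * S.f (dW R.rel.h) * x = S.f y) :
    x * S.f (cond s.ofH (dW R.rel.g * dW (iw j s.E) * y) (y⁻¹ * (dW (iw j s.D))⁻¹ * dW R.rel.h)) * x =
      S.f (cond s.ofH (y * (dW (iw j s.D))⁻¹ * dW R.rel.h)
        ((dW R.rel.h)⁻¹ * dW (iw j s.E) * y)) := by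
  obtain ⟨b, E, D⟩ := s
  have hgx : x * S.f (dW R.rel.g) * x = S.f y * x * (S.f (dW R.rel.h))⁻¹ := by
    rw [← hy]; simp only [mul_assoc, hF.cancel, mul_inv_cancel, mul_one]
  cases b
  · simp only [Self.ok, cond_false] at hs ⊢
    have e1 := congrArg S.f (eq_of_eqw hs)
    simp only [dW_append, dW_nil, map_mul, map_one] at e1
    have e2 : x * (S.f (dW R.rel.g) * S.f (dW (gw E)) * S.f (dW R.rel.g) * S.f (dW (gw D))) * x
        = 1 := by rw [e1, mul_one, hF.sq]
    rw [hF.conj_mul, hF.conj_mul, hF.conj_mul, hgx, hF.alpha, hF.alpha] at e2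
    set h := S.f (dW R.rel.h)
    set e := S.f (dW (iw j E))
    set d := S.f (dW (iw j D))
    refine hF.flip ?_
    simp only [map_mul, map_inv]
    calc x * (h⁻¹ * e * S.f y) * x
        = (S.f y)⁻¹ * (S.f y * x * h⁻¹ * e * (S.f y * x * h⁻¹) * d) * d⁻¹ * h := by group
      _ = (S.f y)⁻¹ * d⁻¹ * h := by rw [e2, mul_one]
  · simp only [Self.ok, cond_true] at hs ⊢
    have e1 := congrArg S.f (eq_of_eqw hs)
    simp only [dW_append, map_mul] at e1
    have e2 : x * S.f (dW R.rel.h) * x = S.f (dW (iw j E)) *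
        (S.f y * x * (S.f (dW R.rel.h))⁻¹) * S.f (dW (iw j D)) := by
      conv_lhs => rw [e1, hF.conj_mul, hF.conj_mul, hgx, hF.alpha, hF.alpha]
    set g := S.f (dW R.rel.g)
    set h := S.f (dW R.rel.h)
    set e := S.f (dW (iw j E))
    set d := S.f (dW (iw j D))
    simp only [map_mul, map_inv]
    calc x * (g * e * S.f y) * x
        = x * g * (e * (S.f y * x * h⁻¹) * d) * d⁻¹ * h := by group
      _ = x * g * (x * h * x) * d⁻¹ * h := by rw [e2]
      _ = S.f y * d⁻¹ * h := by rw [← hy]; group

theorem crit_rule (hF : Frame S j x) {y a4 P4 Q4 : DD} {D E3 D3 E4 D4 : List (Fin 3)}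
    {g h : List (Fin 9)} (hy : x * S.f (dW g) * x * S.f (dW h) * x = S.f y)
    (h3 : dW (inW h ++ gw D ++ g) = dW (gw E3 ++ g ++ gw D3))
    (h4 : dW g * dW (iw j D) * y = dW (gw E4) * a4 * dW (gw D4))
    (hr : x * S.f a4 * x = S.f P4 * x * S.f Q4) :
    x * S.f (P4⁻¹ * (dW (iw j E4))⁻¹ * y * dW (iw j E3) * y) * x =
      S.f (Q4 * dW (iw j D4) * (dW h)⁻¹ * (dW (iw j D3))⁻¹ * dW h) := by
  have e3 := congrArg S.f h3
  have e4 := congrArg S.f h4
  simp only [dW_append, dW_inW, map_mul, map_inv] at e3 e4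
  simp only [map_mul, map_inv]
  set G' := S.f (dW g)
  set H := S.f (dW h)
  set e := S.f (dW (iw j E3))
  set d := S.f (dW (iw j D3))
  set e' := S.f (dW (iw j E4))
  set d' := S.f (dW (iw j D4))
  set W := S.f y
  have hgx : x * G' * x = W * x * H⁻¹ := by
    rw [← hy]; simp only [mul_assoc, hF.cancel, mul_inv_cancel, mul_one]
  have hL : x * G' * x * (S.f (dW (gw D)) * G' * x) = W * e * W * x * H⁻¹ * d := by
    calc x * G' * x * (S.f (dW (gw D)) * G' * x)
        = W * (x * (H⁻¹ * S.f (dW (gw D)) * G') * x) := by rw [hgx]; simp only [mul_assoc]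
      _ = W * (e * (W * x * H⁻¹) * d) := by
          rw [e3, hF.conj_mul, hF.conj_mul, hgx, hF.alpha, hF.alpha]
      _ = _ := by simp only [mul_assoc]
  have hR : x * G' * x * (S.f (dW (gw D)) * G' * x) = e' * (S.f P4 * x * S.f Q4) * d' * H⁻¹ := by
    calc x * G' * x * (S.f (dW (gw D)) * G' * x)
        = x * G' * (x * S.f (dW (gw D)) * x) * (x * G' * x) := by simp only [mul_assoc, hF.cancel]
      _ = x * (G' * S.f (dW (iw j D)) * W) * x * H⁻¹ := by
          rw [hF.alpha, hgx]; simp only [mul_assoc]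
      _ = _ := by rw [e4, hF.conj_mul, hF.conj_mul, hr, hF.alpha, hF.alpha]
  have key := hL.symm.trans hR
  calc x * ((S.f P4)⁻¹ * e'⁻¹ * W * e * W) * x
      = x * (S.f P4)⁻¹ * e'⁻¹ * (W * e * W * x * H⁻¹ * d) * d⁻¹ * H := by group
    _ = x * x * S.f Q4 * d' * H⁻¹ * d⁻¹ * H := by rw [key]; group
    _ = _ := by rw [hF.sq, one_mul]

/-- The relation `x c x c⁻¹ x`. -/
def cRel (Lw : List (Fin 3)) (prs : List (List (Fin 3) × List (Fin 3) × List (Fin 3))) : Rel :=
  ⟨cW, inW cW, Lw, prs⟩

/-- The pinned value. -/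
theorem Frame.pinned (hF : Frame S j x) (R : Pin) (Z : Rel) (hZg : Z.g = cW) (hZh : Z.h = inW cW)
    (hZ : Z.eqOK j = true) (he : R.eqOK j = true) (hc : R.candOK j = true)
    (hs : R.signOK j = true) (hp : R.critOK j (Z.cands j) = true) :
    x * S.word R.rel.g * x * S.word R.rel.h * x = S.word R.Y := by
  simp only [Pin.eqOK, Bool.and_eq_true, List.all_eq_true] at he
  obtain ⟨⟨⟨⟨hRel, hself⟩, hsgn⟩, h3⟩, htl⟩ := he
  obtain ⟨y, hy, hyc⟩ := hF.exists_value R.rel hRel
  rw [word_eq, word_eq, word_eq, hy]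
  simp only [Pin.candOK, Bool.and_eq_true, List.all_eq_true, beq_iff_eq] at hc
  obtain ⟨i, hi, hget⟩ := List.mem_iff_getElem.1 hyc
  have hi' : i < R.fates.length := hc.1 ▸ hi
  have hfate : fateOK j R (pt y) (R.fates[i]) = true := by
    have hm : (pt y, R.fates[i]) ∈ (R.rel.cands j).zip R.fates := by
      rw [List.mem_iff_getElem]
      exact ⟨i, by rw [List.length_zip]; omega, by rw [List.getElem_zip, hget]⟩
    exact hc.2 _ hm
  generalize hf : R.fates[i] = f at hfate
  cases f with
  | odd T => exact (odd_false hfate).elim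
  | self k L =>
    simp only [fateOK] at hfate
    split at hfate
    · rename_i s hsk
      have hr := self_rule hF (hself s (List.mem_of_getElem? hsk)) hy
      refine (hF.kill_false (L := L) hr ?_).elim
      cases hb : s.ofH <;>
        simpa only [Self.tabA, Self.tabB, hb, cond_true, cond_false, ← pt_dW, ← pt_inv, ← pt_mul,
          dW_append, dW_inW, mul_assoc] using hfate
    · exact absurd hfate (by simp)
  | keep =>
    simp only [fateOK, Bool.or_eq_true, beq_iff_eq] at hfate
    rcases hfate with hY | hO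
    · rw [← pt_dW] at hY
      rcases eq_or_tt hY with e | e
      · rw [e]
      · exfalso
        rw [e, ← dW_append] at hy
        have hr := self_rule hF hsgn hy
        simp only [Pin.signOK, Bool.and_eq_true, Bool.or_eq_true, bne_iff_ne] at hs
        have ha := eq_of_eqw hs.1
        have hab : x * S.f (dW (R.sgn.wordA j R (R.Y ++ ttW))) * x =
            S.f (dW (R.sgn.wordB j R (R.Y ++ ttW))) := by
          cases hb' : R.sgn.ofH <;>
            simpa only [Self.wordA, Self.wordB, hb', cond_true, cond_false, dW_append, dW_inW]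
              using hr
        rw [ha, hF.alpha] at hab
        have he' := S.inj hab
        rcases hs.2 with hb | hb
        · have hb := eq_of_eqw hb
          rw [dW_append, ← he'] at hb
          exact ne_mul_tt _ hb.symm
        · exact hb (by rw [← pt_dW, ← pt_dW, he'])
    · exfalso
      simp only [Pin.critOK, Bool.and_eq_true, List.all_eq_true, List.any_eq_true, beq_iff_eq] at hp
      obtain ⟨hs4, hk⟩ := hp
      rw [← hO] at hs4 hk
      obtain ⟨a4, P4, Q4, hr, hm, ha4, hQ4⟩ : ∃ a4 P4 Q4 : DD,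
          x * S.f a4 * x = S.f P4 * x * S.f Q4 ∧ pt P4 ∈ cond R.crit.useC (Z.cands j) [pt y] ∧
            a4 = dW R.a4 ∧ Q4 = dW R.q4 := by
        cases hu : R.crit.useC
        · refine ⟨_, y, _, ?_, by simp, rfl, rfl⟩
          simp only [Pin.a4, Pin.q4, hu, cond_false, dW_inW, map_inv]
          rw [← hy]; simp only [mul_assoc, hF.cancel, mul_inv_cancel, mul_one]
        · obtain ⟨z, hz, hzc⟩ := hF.exists_value Z hZ
          refine ⟨_, z, _, ?_, by simpa using hzc, rfl, rfl⟩
          simp only [Pin.a4, Pin.q4, hu, cond_true]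
          rw [← hz, hZg, hZh, dW_inW, map_inv]
          simp only [mul_assoc, hF.cancel, inv_mul_cancel, mul_one]
      have hpt : pt (dW R.rel.g * dW (iw j R.crit.D) * y) =
          pt (dW (gw R.crit.E4) * a4 * dW (gw R.crit.D4)) := by
        rw [ha4]
        simpa only [← pt_dW, ← pt_mul, dW_append, mul_assoc] using hs4
      obtain ⟨E4, hE4, h4⟩ : ∃ E4 ∈ [R.crit.E4, R.crit.E4 ++ R.crit.tl],
          dW R.rel.g * dW (iw j R.crit.D) * y = dW (gw E4) * a4 * dW (gw R.crit.D4) := by
        rcases eq_or_tt hpt with e | e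
        · exact ⟨_, List.mem_cons_self, e⟩
        · refine ⟨_, List.mem_cons_of_mem _ List.mem_cons_self, ?_⟩
          rw [e, gw_append, dW_append, eq_of_eqw htl, mul_assoc (dW (gw R.crit.E4) * a4),
            ttW_central (dW (gw R.crit.D4)), ← mul_assoc, mul_assoc _ a4, ttW_central a4,
            ← mul_assoc (dW (gw R.crit.E4))]
      obtain ⟨L, -, hL⟩ := hk _ hm E4 hE4
      refine hF.kill_false (L := L) (crit_rule hF hy (eq_of_eqw h3) h4 hr) ?_
      rw [hQ4]
      simpa only [← pt_dW, ← pt_inv, ← pt_mul, dW_append, dW_inW, mul_assoc] using hL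

end

end Cfsg.Agent.LyRec.Triangle
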